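import Cfsg.Agent.H520.FC.Defs
import Cfsg.Agent.S1025
import Cfsg.Agent.S1026
import Cfsg.Agent.S1032

/-!
# `F₄(q)`, `q` odd: classes of the parabolic of type `B₃` in the 7-dimensional layer (helper446)

`ob3_v7`: `u` in the group `⟨X_x : x₀ = 2⟩` of order `q⁷`, `u` not conjugate into the root group of the highest root:
the class of `u` under `P_{B₃}` has at least `(q - 1)² q⁵ / 2` elements.
-/

set_option autoImplicit false
set_option linter.unusedSectionVars false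
set_option linter.unusedSimpArgs false
set_option linter.unnecessarySeqFocus false

namespace Cfsg.Agent.H446.FC

open CoxeterSystem Cfsg.Agent.ChevalleyStructure.CoxeterGeom Cfsg.Agent.Tits.Roots Cfsg.Agent.Tits.Core
  Cfsg.Agent.Tits.Exchange Cfsg.Agent.Nodes.Reps Cfsg.Agent.Nodes.BNOf Cfsg.Agent.Nodes.StabComb
  Cfsg.Agent.Nodes.Bruhat Cfsg.Agent.Nodes.OppDec Cfsg.Agent.Nodes.LeviDec Cfsg.Agent.Nodes.NormX
  Cfsg.Agent.Nodes.Coroot Cfsg.Agent.Nodes.RGDChev Cfsg.Agent.KFacts.RgdPar Cfsg.Agent.KFacts.RgdTI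
  Cfsg.Agent.KFacts.RgdCent Cfsg.Agent.KFacts.RgdChevCoord Cfsg.Agent.Nodes.ChevCls
  Cfsg.Agent.OddHalf.NI.ModelChev Cfsg.Agent.H225.PPow
open Cfsg.Lie Cfsg.Agent.ChevalleyStructure Cfsg.Agent.ChevalleyStructure.Elts
  Cfsg.Agent.ChevalleyStructure.RootVec Cfsg.Agent.ChevalleyStructure.NPerm
  Cfsg.Agent.ChevalleyStructure.CoxeterGeomTypes
open Cfsg.Agent.H701.F43.Cent (hF cF)
open Cfsg.Agent.H520.FC

universe u

variable {K : Type u} [Field K]

/-! ### root elements -/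

theorem inF4 : InList chevF4 := by simp

/-- root elements -/
noncomputable def X (r : ℕ) (t : K) : ↥(chevF4.group K) := ⟨xG inF4 r t, xG_mem_group inF4 r t⟩

theorem X_add (r : ℕ) (t u : K) : X r (t + u) = X r t * X r u := Subtype.ext (xG_add inF4 r t u).symm

theorem X_zero (r : ℕ) : X r (0 : K) = 1 := Subtype.ext (xG_zero inF4 r)

theorem X_neg (r : ℕ) (t : K) : X r (-t) = (X r t)⁻¹ := by
  rw [eq_inv_iff_mul_eq_one, ← X_add, neg_add_cancel, X_zero]

/-- the commutator relation in conjugation form -/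
theorem rel {s r : ℕ} (hs : s < 48) (hr : r < 48) (h1 : r ≠ s) (h2 : r ≠ chevF4.neg s) (u t : K) :
    (X s u)⁻¹ * X r t * X s u =
      X r t * ((chevF4.commTerms s r).map fun p => X p.1 ((p.2.1 : K) * (-u) ^ p.2.2.1 * t ^ p.2.2.2)).prod := by
  have e1 : X r t * X s u = X s u * (X r t *
      ((chevF4.commTerms s r).map fun p => X p.1 ((p.2.1 : K) * (-u) ^ p.2.2.1 * t ^ p.2.2.2)).prod) := by
    apply Subtype.ext
    refine Units.ext ?_
    have h := S1025.result (F := K) chevF4 inF4 s r hs hr h1 h2 u t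
    have e2 : (((((chevF4.commTerms s r).map fun p => X p.1 ((p.2.1 : K) * (-u) ^ p.2.2.1 * t ^ p.2.2.2)).prod :
        ↥(chevF4.group K)) : GL chevF4.Idx K) : Matrix chevF4.Idx chevF4.Idx K) =
        chevF4.wordMat K (chevF4.commWord K s r u t) := by
      rw [ChevalleyDatum.commWord]
      generalize chevF4.commTerms s r = l
      induction l with
      | nil => rfl
      | cons p l ih =>
        rw [List.map_cons, List.prod_cons, List.map_cons, wordMat_cons, ← ih]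
        rfl
    show chevF4.x K r t * chevF4.x K s u = chevF4.x K s u * (chevF4.x K r t * _)
    rw [e2, h, mul_assoc]
  rw [mul_assoc, e1, inv_mul_cancel_left]

/-- the elements of the torus -/
noncomputable def H (i : ℕ) (c : K) : ↥(chevF4.group K) :=
  ⟨hG inF4 (chevF4.simple i) c, hG_mem_group inF4 _ _⟩

theorem H_conj {i s : ℕ} (hi : i < 4) (hs : s < 48) {c : K} (hc : c ≠ 0) (t : K) :
    H i c * X s t * (H i c)⁻¹ = X s (c ^ (chevF4.cartan i s) * t) := by
  rw [mul_inv_eq_iff_eq_mul]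
  apply Subtype.ext
  refine Units.ext ?_
  show ((hG inF4 (chevF4.simple i) c * xG inF4 s t : GL chevF4.Idx K) : Matrix chevF4.Idx chevF4.Idx K) =
    ((xG inF4 s (c ^ (chevF4.cartan i s) * t) * hG inF4 (chevF4.simple i) c : GL chevF4.Idx K) :
      Matrix chevF4.Idx chevF4.Idx K)
  rw [Units.val_mul, Units.val_mul, coe_xG, coe_xG, coe_hG]
  exact S1032.result (F := K) chevF4 inF4 i s hi hs c hc t

theorem H_mem {i : ℕ} (hi : i < 4) {c : K} (hc : c ≠ 0) : H i c ∈ TT chevF4 K := by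
  show (H i c : GL chevF4.Idx K) ∈ chevF4.diagonalSubgroup K
  exact hG_mem_diagonal inF4 (by interval_cases i <;> decide) hc

/-! ### the elements of the layer -/

/-- the roots of the layer -/
def L7 : List ℕ := [41, 42, 43, 44, 45, 46, 47]

theorem lt_of_L7 {r : ℕ} (hr : r ∈ L7) : r < 48 := by
  simp only [L7, List.mem_cons, List.not_mem_nil, or_false] at hr
  omega

theorem comm_tab : ∀ s ∈ L7, ∀ r ∈ L7, chevF4.commTerms s r = [] ∧ r ≠ chevF4.neg s := by decide +kernel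

theorem X_comm {r s : ℕ} (hr : r ∈ L7) (hs : s ∈ L7) (t u : K) : Commute (X r t) (X s u) := by
  by_cases h : r = s
  · subst h
    show X r t * X r u = X r u * X r t
    rw [← X_add, ← X_add, add_comm]
  · have h1 := rel (lt_of_L7 hs) (lt_of_L7 hr) h (comm_tab s hs r hr).2 u t
    rw [(comm_tab s hs r hr).1, List.map_nil, List.prod_nil, mul_one] at h1
    show X r t * X s u = X s u * X r t
    rw [mul_assoc, inv_mul_eq_iff_eq_mul] at h1
    exact h1

/-- partial products -/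
noncomputable def EL (l : List ℕ) (t : ℕ → K) : ↥(chevF4.group K) := (l.map fun r => X r (t r)).prod

/-- the element of the layer with the coordinates `t` -/
noncomputable def E (t : ℕ → K) : ↥(chevF4.group K) := EL L7 t

theorem EL_add (l : List ℕ) (hl : ∀ r ∈ l, r ∈ L7) (t t' : ℕ → K) : EL l (t + t') = EL l t * EL l t' := by
  induction l with
  | nil => simp [EL]
  | cons r l ih =>
    have h1 := ih fun s hs => hl s (List.mem_cons_of_mem _ hs)
    have h2 : Commute (X r (t' r)) (EL l t) := by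
      refine Commute.list_prod_right _ _ fun x hx => ?_
      obtain ⟨s, hs, rfl⟩ := List.mem_map.1 hx
      exact X_comm (hl r List.mem_cons_self) (hl s (List.mem_cons_of_mem _ hs)) _ _
    have e : ∀ f : ℕ → K, EL (r :: l) f = X r (f r) * EL l f := fun f => by simp [EL]
    rw [e, e, e, h1, Pi.add_apply, X_add]
    calc X r (t r) * X r (t' r) * (EL l t * EL l t') = X r (t r) * (X r (t' r) * EL l t) * EL l t' := by group
      _ = X r (t r) * (EL l t * X r (t' r)) * EL l t' := by rw [h2.eq]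
      _ = X r (t r) * EL l t * (X r (t' r) * EL l t') := by group

theorem E_add (t t' : ℕ → K) : E (t + t') = E t * E t' := EL_add L7 (fun _ h => h) t t'

theorem E_congr {t t' : ℕ → K} (h : ∀ r ∈ L7, t r = t' r) : E t = E t' := by
  unfold E EL
  congr 1
  exact List.map_congr_left fun r hr => by rw [h r hr]

theorem E_zero : E (0 : ℕ → K) = 1 := by simp [E, EL, L7, X_zero]

theorem E_single {r : ℕ} (hr : r ∈ L7) (a : K) : E (Pi.single r a) = X r a := by
  simp only [L7, List.mem_cons, List.not_mem_nil, or_false] at hr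
  rcases hr with rfl | rfl | rfl | rfl | rfl | rfl | rfl <;>
  simp [E, EL, L7, X_zero, Pi.single_apply]

theorem E_inj {t t' : ℕ → K} (h : E t = E t') : ∀ r ∈ L7, t r = t' r := by
  have key : ∀ t : ℕ → K, (E t : GL chevF4.Idx K) =
      wordG inF4 (chevF4.posRoots.map fun r => (r, if r ∈ L7 then t r else 0)) := by
    intro t
    have e : chevF4.posRoots = [24, 25, 26, 27, 28, 29, 30, 31, 32, 33, 34, 35, 36, 37, 38, 39, 40] ++ L7 := by
      decide +kernel
    rw [e, List.map_append, wordG_append]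
    have h1 : wordG inF4 (([24, 25, 26, 27, 28, 29, 30, 31, 32, 33, 34, 35, 36, 37, 38, 39, 40] : List ℕ).map
        fun r => (r, if r ∈ L7 then t r else (0 : K))) = 1 := by
      simp [wordG, L7, xG_zero]
    rw [h1, one_mul]
    simp [E, EL, wordG, L7, X]
  have hmem : (E t : GL chevF4.Idx K) ∈ chevF4.posUnipotent K := by
    rw [key]
    refine mem_of_xG_mem inF4 fun p hp => ?_
    obtain ⟨r, hr, rfl⟩ := List.mem_map.1 hp
    refine xG_mem_posUnipotent inF4 ?_ _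
    rw [ChevalleyDatum.posRoots, List.mem_filter] at hr
    exact of_decide_eq_true hr.2
  have hpos : ∀ r ∈ L7, chevF4.IsPosRoot r := by decide +kernel
  obtain ⟨v, -, hv⟩ := (Cfsg.Agent.S1026.result chevF4 (by simp)).1 _ hmem
  have h3 := hv (fun r => if r ∈ L7 then t r else 0)
    ⟨fun r hr => if_neg fun hr' => hr (hpos r hr'), (eq_wordG_iff inF4 _ _).1 (key t)⟩
  have h4 := hv (fun r => if r ∈ L7 then t' r else 0)
    ⟨fun r hr => if_neg fun hr' => hr (hpos r hr'), (eq_wordG_iff inF4 _ _).1 (by rw [h]; exact key t')⟩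
  intro r hr
  have h5 := congrFun (h3.trans h4.symm) r
  simpa [hr] using h5

/-! ### the action of the root groups of `B₃` -/

/-- the roots of `B₃` used below -/
def S10 : List ℕ := [15, 16, 18, 21, 23, 24, 26, 29, 31, 32]

/-- the image of `X r a` under `(X s u)⁻¹` -/
noncomputable def Mat (s : ℕ) (u : K) (r : ℕ) (a : K) : ℕ → K :=
  Pi.single r a + ((chevF4.commTerms s r).map fun p =>
    (Pi.single p.1 ((p.2.1 : K) * (-u) ^ p.2.2.1 * a ^ p.2.2.2) : ℕ → K)).sum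

theorem S10_tab : ∀ s ∈ S10, ∀ r ∈ L7, s < 48 ∧ r ≠ s ∧ r ≠ chevF4.neg s ∧ ∀ p ∈ chevF4.commTerms s r, p.1 ∈ L7 := by
  decide +kernel

theorem E_sum {α : Type*} (l : List α) (n : α → ℕ) (c : α → K) (hl : ∀ p ∈ l, n p ∈ L7) :
    E ((l.map fun p => (Pi.single (n p) (c p) : ℕ → K)).sum) = (l.map fun p => X (n p) (c p)).prod := by
  induction l with
  | nil => simp [E_zero]
  | cons p l ih =>
    rw [List.map_cons, List.map_cons, List.sum_cons, List.prod_cons, E_add, E_single (hl p List.mem_cons_self),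
      ih fun q hq => hl q (List.mem_cons_of_mem _ hq)]

theorem conj_X {s r : ℕ} (hs : s ∈ S10) (hr : r ∈ L7) (u a : K) : (X s u)⁻¹ * X r a * X s u = E (Mat s u r a) := by
  obtain ⟨h0, h1, h2, h3⟩ := S10_tab s hs r hr
  rw [rel h0 (lt_of_L7 hr) h1 h2, Mat, E_add, E_single hr,
    E_sum _ (fun p : ℕ × ℤ × ℕ × ℕ => p.1) (fun p => (p.2.1 : K) * (-u) ^ p.2.2.1 * a ^ p.2.2.2) h3]

theorem conj_EL {s : ℕ} (hs : s ∈ S10) (u : K) (t : ℕ → K) (l : List ℕ) (hl : ∀ r ∈ l, r ∈ L7) :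
    (X s u)⁻¹ * EL l t * X s u = E ((l.map fun r => Mat s u r (t r)).sum) := by
  induction l with
  | nil => simp [EL, E_zero]
  | cons r l ih =>
    have e : EL (r :: l) t = X r (t r) * EL l t := by simp [EL]
    rw [e, List.map_cons, List.sum_cons, E_add, ← ih fun q hq => hl q (List.mem_cons_of_mem _ hq),
      ← conj_X hs (hl r List.mem_cons_self)]
    group

/-- coordinates as a tuple -/
def v7 (a b c d e f g : K) : ℕ → K := fun j =>
  if j = 41 then a else if j = 42 then b else if j = 43 then c else if j = 44 then d else if j = 45 then e else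
  if j = 46 then f else if j = 47 then g else 0

/-- the element with the coordinates `a, …, g` -/
noncomputable def E7 (a b c d e f g : K) : ↥(chevF4.group K) := E (v7 a b c d e f g)

theorem E_eq (t : ℕ → K) : E t = E7 (t 41) (t 42) (t 43) (t 44) (t 45) (t 46) (t 47) := by
  refine E_congr fun r hr => ?_
  simp only [L7, List.mem_cons, List.not_mem_nil, or_false] at hr
  rcases hr with rfl | rfl | rfl | rfl | rfl | rfl | rfl <;> simp [v7]

theorem E7_inj {a b c d e f g a' b' c' d' e' f' g' : K} (h : E7 a b c d e f g = E7 a' b' c' d' e' f' g') :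
    a = a' ∧ b = b' ∧ c = c' ∧ d = d' ∧ e = e' ∧ f = f' ∧ g = g' := by
  have h1 := E_inj h
  refine ⟨h1 41 (by decide), h1 42 (by decide), h1 43 (by decide), h1 44 (by decide), h1 45 (by decide),
    h1 46 (by decide), h1 47 (by decide)⟩

theorem conj_E7 {s : ℕ} (hs : s ∈ S10) (u a b c d e f g a' b' c' d' e' f' g' : K)
    (h : ∀ j ∈ L7, Mat s u 41 a j + (Mat s u 42 b j + (Mat s u 43 c j + (Mat s u 44 d j + (Mat s u 45 e j +
      (Mat s u 46 f j + Mat s u 47 g j))))) = v7 a' b' c' d' e' f' g' j) :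
    (X s u)⁻¹ * E7 a b c d e f g * X s u = E7 a' b' c' d' e' f' g' := by
  rw [E7, E, conj_EL hs u _ L7 (fun _ h => h)]
  refine E_congr fun r hr => ?_
  rw [← h r hr]
  simp [L7, v7]

theorem t15 : chevF4.commTerms 15 41 = [] ∧ chevF4.commTerms 15 42 = [] ∧ chevF4.commTerms 15 43 = [] ∧
    chevF4.commTerms 15 44 = [] ∧ chevF4.commTerms 15 45 = [] ∧ chevF4.commTerms 15 46 = [(41, 1, 1, 1)] ∧
    chevF4.commTerms 15 47 = [(42, 1, 1, 1)] := by decide +kernel

theorem t16 : chevF4.commTerms 16 41 = [] ∧ chevF4.commTerms 16 42 = [] ∧ chevF4.commTerms 16 43 = [] ∧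
    chevF4.commTerms 16 44 = [] ∧ chevF4.commTerms 16 45 = [(41, 1, 1, 1)] ∧ chevF4.commTerms 16 46 = [] ∧
    chevF4.commTerms 16 47 = [(43, -1, 1, 1)] := by decide +kernel

theorem t18 : chevF4.commTerms 18 41 = [] ∧ chevF4.commTerms 18 42 = [] ∧ chevF4.commTerms 18 43 = [] ∧
    chevF4.commTerms 18 44 = [(41, 2, 1, 1)] ∧ chevF4.commTerms 18 45 = [] ∧ chevF4.commTerms 18 46 = [] ∧
    chevF4.commTerms 18 47 = [(44, 1, 1, 1), (41, 1, 2, 1)] := by decide +kernel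

theorem t21 : chevF4.commTerms 21 41 = [] ∧ chevF4.commTerms 21 42 = [] ∧ chevF4.commTerms 21 43 = [(41, -1, 1, 1)] ∧
    chevF4.commTerms 21 44 = [] ∧ chevF4.commTerms 21 45 = [] ∧ chevF4.commTerms 21 46 = [] ∧
    chevF4.commTerms 21 47 = [(45, 1, 1, 1)] := by decide +kernel

theorem t23 : chevF4.commTerms 23 41 = [] ∧ chevF4.commTerms 23 42 = [(41, 1, 1, 1)] ∧ chevF4.commTerms 23 43 = [] ∧
    chevF4.commTerms 23 44 = [] ∧ chevF4.commTerms 23 45 = [] ∧ chevF4.commTerms 23 46 = [] ∧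
    chevF4.commTerms 23 47 = [(46, 1, 1, 1)] := by decide +kernel

theorem t24 : chevF4.commTerms 24 41 = [(42, 1, 1, 1)] ∧ chevF4.commTerms 24 42 = [] ∧ chevF4.commTerms 24 43 = [] ∧
    chevF4.commTerms 24 44 = [] ∧ chevF4.commTerms 24 45 = [] ∧ chevF4.commTerms 24 46 = [(47, 1, 1, 1)] ∧
    chevF4.commTerms 24 47 = [] := by decide +kernel

theorem t26 : chevF4.commTerms 26 41 = [(43, -1, 1, 1)] ∧ chevF4.commTerms 26 42 = [] ∧ chevF4.commTerms 26 43 = [] ∧
    chevF4.commTerms 26 44 = [] ∧ chevF4.commTerms 26 45 = [(47, 1, 1, 1)] ∧ chevF4.commTerms 26 46 = [] ∧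
    chevF4.commTerms 26 47 = [] := by decide +kernel

theorem t29 : chevF4.commTerms 29 41 = [(44, 1, 1, 1), (47, 1, 2, 1)] ∧ chevF4.commTerms 29 42 = [] ∧
    chevF4.commTerms 29 43 = [] ∧ chevF4.commTerms 29 44 = [(47, 2, 1, 1)] ∧ chevF4.commTerms 29 45 = [] ∧
    chevF4.commTerms 29 46 = [] ∧ chevF4.commTerms 29 47 = [] := by decide +kernel

theorem t31 : chevF4.commTerms 31 41 = [(45, 1, 1, 1)] ∧ chevF4.commTerms 31 42 = [] ∧
    chevF4.commTerms 31 43 = [(47, -1, 1, 1)] ∧ chevF4.commTerms 31 44 = [] ∧ chevF4.commTerms 31 45 = [] ∧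
    chevF4.commTerms 31 46 = [] ∧ chevF4.commTerms 31 47 = [] := by decide +kernel

theorem t32 : chevF4.commTerms 32 41 = [(46, 1, 1, 1)] ∧ chevF4.commTerms 32 42 = [(47, 1, 1, 1)] ∧
    chevF4.commTerms 32 43 = [] ∧ chevF4.commTerms 32 44 = [] ∧ chevF4.commTerms 32 45 = [] ∧
    chevF4.commTerms 32 46 = [] ∧ chevF4.commTerms 32 47 = [] := by decide +kernel

theorem c15 (u a b c d e f g : K) : (X 15 u)⁻¹ * E7 a b c d e f g * X 15 u = E7 (a - u * f) (b - u * g) c d e f g :=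
  conj_E7 (by decide) u a b c d e f g _ _ _ _ _ _ _ (by
    obtain ⟨h1, h2, h3, h4, h5, h6, h7⟩ := t15
    intro j hj
    simp only [Mat, h1, h2, h3, h4, h5, h6, h7]
    simp only [L7, List.mem_cons, List.not_mem_nil, or_false] at hj
    rcases hj with rfl | rfl | rfl | rfl | rfl | rfl | rfl <;> simp [v7, Pi.single_apply] <;> ring)

theorem c16 (u a b c d e f g : K) : (X 16 u)⁻¹ * E7 a b c d e f g * X 16 u = E7 (a - u * e) b (c + u * g) d e f g :=
  conj_E7 (by decide) u a b c d e f g _ _ _ _ _ _ _ (by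
    obtain ⟨h1, h2, h3, h4, h5, h6, h7⟩ := t16
    intro j hj
    simp only [Mat, h1, h2, h3, h4, h5, h6, h7]
    simp only [L7, List.mem_cons, List.not_mem_nil, or_false] at hj
    rcases hj with rfl | rfl | rfl | rfl | rfl | rfl | rfl <;> simp [v7, Pi.single_apply] <;> ring)

theorem c18 (u a b c d e f g : K) : (X 18 u)⁻¹ * E7 a b c d e f g * X 18 u =
    E7 (a - 2 * u * d + u ^ 2 * g) b c (d - u * g) e f g :=
  conj_E7 (by decide) u a b c d e f g _ _ _ _ _ _ _ (by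
    obtain ⟨h1, h2, h3, h4, h5, h6, h7⟩ := t18
    intro j hj
    simp only [Mat, h1, h2, h3, h4, h5, h6, h7]
    simp only [L7, List.mem_cons, List.not_mem_nil, or_false] at hj
    rcases hj with rfl | rfl | rfl | rfl | rfl | rfl | rfl <;> simp [v7, Pi.single_apply] <;> ring)

theorem c21 (u a b c d e f g : K) : (X 21 u)⁻¹ * E7 a b c d e f g * X 21 u = E7 (a + u * c) b c d (e - u * g) f g :=
  conj_E7 (by decide) u a b c d e f g _ _ _ _ _ _ _ (by
    obtain ⟨h1, h2, h3, h4, h5, h6, h7⟩ := t21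
    intro j hj
    simp only [Mat, h1, h2, h3, h4, h5, h6, h7]
    simp only [L7, List.mem_cons, List.not_mem_nil, or_false] at hj
    rcases hj with rfl | rfl | rfl | rfl | rfl | rfl | rfl <;> simp [v7, Pi.single_apply] <;> ring)

theorem c23 (u a b c d e f g : K) : (X 23 u)⁻¹ * E7 a b c d e f g * X 23 u = E7 (a - u * b) b c d e (f - u * g) g :=
  conj_E7 (by decide) u a b c d e f g _ _ _ _ _ _ _ (by
    obtain ⟨h1, h2, h3, h4, h5, h6, h7⟩ := t23
    intro j hj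
    simp only [Mat, h1, h2, h3, h4, h5, h6, h7]
    simp only [L7, List.mem_cons, List.not_mem_nil, or_false] at hj
    rcases hj with rfl | rfl | rfl | rfl | rfl | rfl | rfl <;> simp [v7, Pi.single_apply] <;> ring)

theorem c24 (u a b c d e f g : K) : (X 24 u)⁻¹ * E7 a b c d e f g * X 24 u = E7 a (b - u * a) c d e f (g - u * f) :=
  conj_E7 (by decide) u a b c d e f g _ _ _ _ _ _ _ (by
    obtain ⟨h1, h2, h3, h4, h5, h6, h7⟩ := t24
    intro j hj
    simp only [Mat, h1, h2, h3, h4, h5, h6, h7]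
    simp only [L7, List.mem_cons, List.not_mem_nil, or_false] at hj
    rcases hj with rfl | rfl | rfl | rfl | rfl | rfl | rfl <;> simp [v7, Pi.single_apply] <;> ring)

theorem c26 (u a b c d e f g : K) : (X 26 u)⁻¹ * E7 a b c d e f g * X 26 u = E7 a b (c + u * a) d e f (g - u * e) :=
  conj_E7 (by decide) u a b c d e f g _ _ _ _ _ _ _ (by
    obtain ⟨h1, h2, h3, h4, h5, h6, h7⟩ := t26
    intro j hj
    simp only [Mat, h1, h2, h3, h4, h5, h6, h7]
    simp only [L7, List.mem_cons, List.not_mem_nil, or_false] at hj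
    rcases hj with rfl | rfl | rfl | rfl | rfl | rfl | rfl <;> simp [v7, Pi.single_apply] <;> ring)

theorem c29 (u a b c d e f g : K) : (X 29 u)⁻¹ * E7 a b c d e f g * X 29 u =
    E7 a b c (d - u * a) e f (g - 2 * u * d + u ^ 2 * a) :=
  conj_E7 (by decide) u a b c d e f g _ _ _ _ _ _ _ (by
    obtain ⟨h1, h2, h3, h4, h5, h6, h7⟩ := t29
    intro j hj
    simp only [Mat, h1, h2, h3, h4, h5, h6, h7]
    simp only [L7, List.mem_cons, List.not_mem_nil, or_false] at hj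
    rcases hj with rfl | rfl | rfl | rfl | rfl | rfl | rfl <;> simp [v7, Pi.single_apply] <;> ring)

theorem c31 (u a b c d e f g : K) : (X 31 u)⁻¹ * E7 a b c d e f g * X 31 u = E7 a b c d (e - u * a) f (g + u * c) :=
  conj_E7 (by decide) u a b c d e f g _ _ _ _ _ _ _ (by
    obtain ⟨h1, h2, h3, h4, h5, h6, h7⟩ := t31
    intro j hj
    simp only [Mat, h1, h2, h3, h4, h5, h6, h7]
    simp only [L7, List.mem_cons, List.not_mem_nil, or_false] at hj
    rcases hj with rfl | rfl | rfl | rfl | rfl | rfl | rfl <;> simp [v7, Pi.single_apply] <;> ring)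

theorem c32 (u a b c d e f g : K) : (X 32 u)⁻¹ * E7 a b c d e f g * X 32 u = E7 a b c d e (f - u * a) (g - u * b) :=
  conj_E7 (by decide) u a b c d e f g _ _ _ _ _ _ _ (by
    obtain ⟨h1, h2, h3, h4, h5, h6, h7⟩ := t32
    intro j hj
    simp only [Mat, h1, h2, h3, h4, h5, h6, h7]
    simp only [L7, List.mem_cons, List.not_mem_nil, or_false] at hj
    rcases hj with rfl | rfl | rfl | rfl | rfl | rfl | rfl <;> simp [v7, Pi.single_apply] <;> ring)

/-! ### the classes -/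

/-- the nodes of `B₃` -/
abbrev J0 : Set (Fin 4) := {k | k ≠ 0}

theorem S10_zero : ∀ s ∈ S10, s < chevF4.nroots ∧ vec chevF4 4 s 0 = 0 := by decide +kernel

theorem X_mem_XX {r : ℕ} (hr : r < chevF4.nroots) (t : K) : X r t ∈ XX chevF4 4 K (vec chevF4 4 r) := by
  rw [Subgroup.mem_subgroupOf, XV_vec hF K hr]
  exact xG_mem_rootSubgroup inF4 r t

theorem X_mem_PK {s : ℕ} (hs : s ∈ S10) (t : K) : X s t ∈ PK K J0 := by
  obtain ⟨h1, h2⟩ := S10_zero s hs
  refine LJ_le_PJ (X_le_LJ (x := vec chevF4 4 s) ⟨isRoot_vec hF cF h1, fun k hk => ?_⟩ (X_mem_XX h1 t))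
  have : k = 0 := by simpa using hk
  rw [this, h2]

theorem H_mem_PK {i : ℕ} (hi : i < 4) {c : K} (hc : c ≠ 0) : H i c ∈ PK K J0 :=
  B_le_PJ (RGD.T_le_B (H_mem hi hc))

theorem cls_conj {Y : Type*} [Group Y] (P : Subgroup Y) {g : Y} (hg : g ∈ P) (u : Y) : cls P (g * u * g⁻¹) = cls P u := by
  ext x
  constructor
  · rintro ⟨h, hh, rfl⟩
    exact ⟨h * g, P.mul_mem hh hg, by group⟩
  · rintro ⟨h, hh, rfl⟩
    exact ⟨h * g⁻¹, P.mul_mem hh (P.inv_mem hg), by group⟩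

theorem lng_conj {g u : ↥(chevF4.group K)} : Lng (g * u * g⁻¹) ↔ Lng u := by
  constructor
  · rintro ⟨h, hh⟩
    exact ⟨h * g, by rwa [show h * g * u * (h * g)⁻¹ = h * (g * u * g⁻¹) * h⁻¹ by group]⟩
  · rintro ⟨h, hh⟩
    exact ⟨h * g⁻¹, by rwa [show h * g⁻¹ * (g * u * g⁻¹) * (h * g⁻¹)⁻¹ = h * u * h⁻¹ by group]⟩

/-- `u` is replaced by a conjugate under `P` -/
theorem step {u u' : ↥(chevF4.group K)} {s : ℕ} (hs : s ∈ S10) {c : K} (h : (X s c)⁻¹ * u * X s c = u') :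
    cls (PK K J0) u' = cls (PK K J0) u ∧ (Lng u' ↔ Lng u) := by
  have e : u' = (X s c)⁻¹ * u * ((X s c)⁻¹)⁻¹ := by rw [inv_inv, h]
  rw [e]
  exact ⟨cls_conj _ ((PK K J0).inv_mem (X_mem_PK hs c)) u, lng_conj⟩

/-- the group of the layer -/
theorem mem_layer {u : ↥(chevF4.group K)}
    (hu : u ∈ RGD.Sup (XX chevF4 4 K) {x | x ∈ NotJ cF hF.isCartan {k | k ≠ 0} ∧ 2 ≤ x 0}) :
    ∃ a b c d e f g : K, u = E7 a b c d e f g := by
  have tab : ∀ r < chevF4.nroots, 2 ≤ vec chevF4 4 r 0 → r ∈ L7 := by decide +kernel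
  let A : Subgroup ↥(chevF4.group K) :=
    { carrier := {u | ∃ t : ℕ → K, u = E t}
      one_mem' := ⟨0, E_zero.symm⟩
      mul_mem' := by
        rintro _ _ ⟨t, rfl⟩ ⟨t', rfl⟩
        exact ⟨t + t', (E_add t t').symm⟩
      inv_mem' := by
        rintro _ ⟨t, rfl⟩
        refine ⟨-t, ?_⟩
        rw [inv_eq_iff_mul_eq_one, ← E_add, add_neg_cancel, E_zero] }
  have hle : RGD.Sup (XX chevF4 4 K) {x | x ∈ NotJ cF hF.isCartan {k | k ≠ 0} ∧ 2 ≤ x 0} ≤ A := by
    refine RGD.Sup_le ?_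
    rintro x ⟨⟨hx, -, -⟩, h2⟩ y hy
    obtain ⟨r, hr, rfl⟩ := (isRoot_iff hF cF x).1 hx
    rw [Subgroup.mem_subgroupOf, XV_vec hF K hr] at hy
    obtain ⟨t, ht⟩ := (mem_rootSubgroup_iff inF4 r _).1 hy
    refine ⟨Pi.single r t, ?_⟩
    rw [E_single (tab r hr h2)]
    exact Subtype.ext ht
  obtain ⟨t, rfl⟩ := hle hu
  exact ⟨_, _, _, _, _, _, _, E_eq t⟩

/-- `a ≠ 0` after a conjugation -/
theorem norm_one (h2 : (2 : K) ≠ 0) {a b c d e f g : K} (h : E7 a b c d e f g ≠ 1) :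
    ∃ a' b' c' d' e' f' g' : K, a' ≠ 0 ∧ cls (PK K J0) (E7 a' b' c' d' e' f' g') = cls (PK K J0) (E7 a b c d e f g) ∧
      (Lng (E7 a' b' c' d' e' f' g') ↔ Lng (E7 a b c d e f g)) := by
  by_cases ha : a = 0
  swap
  · exact ⟨a, b, c, d, e, f, g, ha, rfl, Iff.rfl⟩
  subst ha
  by_cases hb : b = 0
  swap
  · obtain ⟨h1, h3⟩ := step (by decide) (c23 1 0 b c d e f g)
    exact ⟨_, _, _, _, _, _, _, by simpa using hb, h1, h3⟩
  by_cases hc : c = 0
  swap
  · obtain ⟨h1, h3⟩ := step (by decide) (c21 1 0 b c d e f g)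
    exact ⟨_, _, _, _, _, _, _, by simpa using hc, h1, h3⟩
  by_cases he : e = 0
  swap
  · obtain ⟨h1, h3⟩ := step (by decide) (c16 1 0 b c d e f g)
    exact ⟨_, _, _, _, _, _, _, by simpa using he, h1, h3⟩
  by_cases hf : f = 0
  swap
  · obtain ⟨h1, h3⟩ := step (by decide) (c15 1 0 b c d e f g)
    exact ⟨_, _, _, _, _, _, _, by simpa using hf, h1, h3⟩
  subst hb hc he hf
  by_cases hg : g = 0
  · subst hg
    by_cases hd : d = 0
    · exfalso
      apply h
      subst hd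
      have : (v7 0 0 0 0 0 0 0 : ℕ → K) = 0 := by
        funext j
        simp [v7]
      rw [E7, this, E_zero]
    · obtain ⟨h1, h3⟩ := step (by decide) (c18 1 0 0 0 d 0 0 0)
      refine ⟨_, _, _, _, _, _, _, ?_, h1, h3⟩
      simpa [h2] using hd
  · obtain ⟨h1, h3⟩ := step (by decide) (c23 1 0 0 0 d 0 0 g)
    obtain ⟨h4, h5⟩ := step (by decide) (c15 1 (0 - 1 * 0) 0 0 d 0 (0 - 1 * g) g)
    refine ⟨_, _, _, _, _, _, _, ?_, h4.trans h1, h5.trans h3⟩
    simpa using hg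

/-- the normal form -/
theorem norm_two {a : K} (ha : a ≠ 0) (b c d e f g : K) :
    ∃ g' : K, cls (PK K J0) (E7 a 0 0 0 0 0 g') = cls (PK K J0) (E7 a b c d e f g) ∧
      (Lng (E7 a 0 0 0 0 0 g') ↔ Lng (E7 a b c d e f g)) := by
  obtain ⟨h1, k1⟩ := step (by decide) (c24 (b / a) a b c d e f g)
  rw [div_mul_cancel₀ _ ha, sub_self] at h1 k1
  generalize g - b / a * f = g1 at h1 k1
  obtain ⟨h2, k2⟩ := step (by decide) (c26 (-c / a) a 0 c d e f g1)
  rw [div_mul_cancel₀ _ ha, add_neg_cancel] at h2 k2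
  generalize g1 - -c / a * e = g2 at h2 k2
  obtain ⟨h3, k3⟩ := step (by decide) (c29 (d / a) a 0 0 d e f g2)
  rw [div_mul_cancel₀ _ ha, sub_self] at h3 k3
  generalize g2 - 2 * (d / a) * d + (d / a) ^ 2 * a = g3 at h3 k3
  obtain ⟨h4, k4⟩ := step (by decide) (c31 (e / a) a 0 0 0 e f g3)
  rw [div_mul_cancel₀ _ ha, sub_self] at h4 k4
  generalize g3 + e / a * 0 = g4 at h4 k4
  obtain ⟨h5, k5⟩ := step (by decide) (c32 (f / a) a 0 0 0 0 f g4)
  rw [div_mul_cancel₀ _ ha, sub_self] at h5 k5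
  exact ⟨_, h5.trans (h4.trans (h3.trans (h2.trans h1))), k5.trans (k4.trans (k3.trans (k2.trans k1)))⟩

theorem E7_last (g : K) : E7 0 0 0 0 0 0 g = X 47 g := by
  rw [← E_single (by decide), E7]
  refine E_congr fun r hr => ?_
  simp only [L7, List.mem_cons, List.not_mem_nil, or_false] at hr
  rcases hr with rfl | rfl | rfl | rfl | rfl | rfl | rfl <;> simp [v7, Pi.single_apply]

/-- `X 41 a` is a long root element -/
theorem lng_first (a : K) : Lng (E7 a 0 0 0 0 0 0) := by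
  obtain ⟨-, k1⟩ := step (by decide) (c29 1 a 0 0 0 0 0 0)
  obtain ⟨-, k2⟩ := step (by decide) (c18 (-1) a 0 0 (0 - 1 * a) 0 0 (0 - 2 * 1 * 0 + 1 ^ 2 * a))
  rw [← k1, ← k2]
  have e1 : a - 2 * -1 * (0 - 1 * a) + (-1) ^ 2 * (0 - 2 * 1 * 0 + 1 ^ 2 * a) = 0 := by ring
  have e2 : 0 - 1 * a - -1 * (0 - 2 * 1 * 0 + 1 ^ 2 * a) = 0 := by ring
  rw [e1, e2, E7_last]
  exact ⟨1, by simpa using X_mem_XX (by decide +kernel) _⟩

/-! ### counting -/

theorem H_EL {i : ℕ} (hi : i < 4) {c : K} (hc : c ≠ 0) (t : ℕ → K) (l : List ℕ) (hl : ∀ r ∈ l, r ∈ L7) :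
    H i c * EL l t * (H i c)⁻¹ = EL l (fun r => c ^ (chevF4.cartan i r) * t r) := by
  induction l with
  | nil => simp [EL]
  | cons r l ih =>
    have e : ∀ f : ℕ → K, EL (r :: l) f = X r (f r) * EL l f := fun f => by simp [EL]
    rw [e, e, ← ih fun q hq => hl q (List.mem_cons_of_mem _ hq), ← H_conj hi (lt_of_L7 (hl r List.mem_cons_self)) hc]
    group

theorem H_E7 {i : ℕ} (hi : i < 4) {c : K} (hc : c ≠ 0) (a b : K) :
    H i c * E7 a 0 0 0 0 0 b * (H i c)⁻¹ = E7 (c ^ (chevF4.cartan i 41) * a) 0 0 0 0 0 (c ^ (chevF4.cartan i 47) * b) := by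
  rw [E7, E, H_EL hi hc _ L7 fun _ h => h]
  refine E_congr fun r hr => ?_
  simp only [L7, List.mem_cons, List.not_mem_nil, or_false] at hr
  rcases hr with rfl | rfl | rfl | rfl | rfl | rfl | rfl <;> simp [v7]

theorem cls_torus (a b : K) {c d : K} (hc : c ≠ 0) (hd : d ≠ 0) :
    cls (PK K J0) (E7 (c ^ 2 * (d⁻¹ * a)) 0 0 0 0 0 (d * b)) = cls (PK K J0) (E7 a 0 0 0 0 0 b) := by
  have h1 := H_E7 (i := 3) (by norm_num) hd a b
  rw [show chevF4.cartan 3 41 = -1 by decide +kernel, show chevF4.cartan 3 47 = 1 by decide +kernel, zpow_neg_one,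
    zpow_one] at h1
  have h2 := H_E7 (i := 0) (by norm_num) hc (d⁻¹ * a) (d * b)
  rw [show chevF4.cartan 0 41 = 2 by decide +kernel, show chevF4.cartan 0 47 = 0 by decide +kernel, zpow_ofNat,
    zpow_zero, one_mul] at h2
  rw [← h2, cls_conj _ (H_mem_PK (by norm_num) hc), ← h1, cls_conj _ (H_mem_PK (by norm_num) hd)]

theorem cls_unip (A B x1 x2 x3 x4 x5 : K) :
    cls (PK K J0) (E7 A (0 - x1 * A) (0 + x2 * A) (0 - x3 * A) (0 - x4 * A) (0 - x5 * A)
      (B + A * (x3 ^ 2 + x2 * x4 + x1 * x5))) = cls (PK K J0) (E7 A 0 0 0 0 0 B) := by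
  obtain ⟨h1, -⟩ := step (by decide) (c24 x1 A 0 0 0 0 0 B)
  obtain ⟨h2, -⟩ := step (by decide) (c26 x2 A (0 - x1 * A) 0 0 0 0 (B - x1 * 0))
  obtain ⟨h3, -⟩ := step (by decide) (c29 x3 A (0 - x1 * A) (0 + x2 * A) 0 0 0 (B - x1 * 0 - x2 * 0))
  obtain ⟨h4, -⟩ := step (by decide) (c31 x4 A (0 - x1 * A) (0 + x2 * A) (0 - x3 * A) 0 0
    (B - x1 * 0 - x2 * 0 - 2 * x3 * 0 + x3 ^ 2 * A))
  obtain ⟨h5, -⟩ := step (by decide) (c32 x5 A (0 - x1 * A) (0 + x2 * A) (0 - x3 * A) (0 - x4 * A) 0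
    (B - x1 * 0 - x2 * 0 - 2 * x3 * 0 + x3 ^ 2 * A + x4 * (0 + x2 * A)))
  rw [← h1, ← h2, ← h3, ← h4, ← h5]
  congr 2
  ring

theorem card_bound [Finite K] {a b : K} (ha : a ≠ 0) (hb : b ≠ 0) :
    (Nat.card K - 1) ^ 2 * Nat.card K ^ 5 ≤ 2 * Nat.card ↥(cls (PK K J0) (E7 a 0 0 0 0 0 b)) := by
  classical
  have := Fintype.ofFinite K
  have hfin : Finite ↥(chevF4.group K) := inferInstance
  have : Finite ↥(cls (PK K J0) (E7 a 0 0 0 0 0 b)) := Finite.of_injective _ Subtype.val_injective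
  have := Fintype.ofFinite ↥(cls (PK K J0) (E7 a 0 0 0 0 0 b))
  have hself : ∀ u : ↥(chevF4.group K), u ∈ cls (PK K J0) u := fun u => ⟨1, one_mem _, by group⟩
  have hmem : ∀ x : Kˣ × Kˣ × K × K × K × K × K,
      E7 ((x.1 : K) ^ 2 * ((x.2.1 : K)⁻¹ * a)) (0 - x.2.2.1 * ((x.1 : K) ^ 2 * ((x.2.1 : K)⁻¹ * a)))
        (0 + x.2.2.2.1 * ((x.1 : K) ^ 2 * ((x.2.1 : K)⁻¹ * a)))
        (0 - x.2.2.2.2.1 * ((x.1 : K) ^ 2 * ((x.2.1 : K)⁻¹ * a)))
        (0 - x.2.2.2.2.2.1 * ((x.1 : K) ^ 2 * ((x.2.1 : K)⁻¹ * a)))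
        (0 - x.2.2.2.2.2.2 * ((x.1 : K) ^ 2 * ((x.2.1 : K)⁻¹ * a)))
        ((x.2.1 : K) * b + ((x.1 : K) ^ 2 * ((x.2.1 : K)⁻¹ * a)) *
          (x.2.2.2.2.1 ^ 2 + x.2.2.2.1 * x.2.2.2.2.2.1 + x.2.2.1 * x.2.2.2.2.2.2)) ∈
      cls (PK K J0) (E7 a 0 0 0 0 0 b) := by
    intro x
    rw [← cls_torus a b x.1.ne_zero x.2.1.ne_zero, ← cls_unip _ _ x.2.2.1 x.2.2.2.1 x.2.2.2.2.1 x.2.2.2.2.2.1
      x.2.2.2.2.2.2]
    exact hself _
  let f : Kˣ × Kˣ × K × K × K × K × K → ↥(cls (PK K J0) (E7 a 0 0 0 0 0 b)) := fun x => ⟨_, hmem x⟩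
  have key : ∀ x y, f x = f y → y = x ∨ y = (-x.1, x.2) := by
    rintro ⟨c, d, x1, x2, x3, x4, x5⟩ ⟨c', d', y1, y2, y3, y4, y5⟩ h
    obtain ⟨e1, e2, e3, e4, e5, e6, e7⟩ := E7_inj (congrArg Subtype.val h)
    simp only at e1 e2 e3 e4 e5 e6 e7
    have hA : (c : K) ^ 2 * ((d : K)⁻¹ * a) ≠ 0 :=
      mul_ne_zero (pow_ne_zero _ c.ne_zero) (mul_ne_zero (inv_ne_zero d.ne_zero) ha)
    rw [← e1] at e2 e3 e4 e5 e6 e7
    have f1 : x1 = y1 := mul_right_cancel₀ hA (sub_right_injective e2)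
    have f2 : x2 = y2 := mul_right_cancel₀ hA (add_right_injective 0 e3)
    have f3 : x3 = y3 := mul_right_cancel₀ hA (sub_right_injective e4)
    have f4 : x4 = y4 := mul_right_cancel₀ hA (sub_right_injective e5)
    have f5 : x5 = y5 := mul_right_cancel₀ hA (sub_right_injective e6)
    subst f1 f2 f3 f4 f5
    have f6 : (d : K) = d' := mul_right_cancel₀ hb (add_right_cancel e7)
    have f7 : d = d' := Units.ext f6
    subst f7
    have f8 : (c : K) ^ 2 = (c' : K) ^ 2 := mul_right_cancel₀ (mul_ne_zero (inv_ne_zero d.ne_zero) ha) e1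
    rcases sq_eq_sq_iff_eq_or_eq_neg.1 f8 with h9 | h9
    · left
      rw [Units.ext h9]
    · right
      have : c' = -c := Units.ext (by rw [Units.val_neg, h9, _root_.neg_neg])
      rw [this]
  have h1 : Fintype.card (Kˣ × Kˣ × K × K × K × K × K) ≤ 2 * Fintype.card ↥(cls (PK K J0) (E7 a 0 0 0 0 0 b)) := by
    refine Finset.card_le_mul_card_image_of_maps_to (s := Finset.univ) (t := Finset.univ) (f := f)
      (fun _ _ => Finset.mem_univ _) 2 fun y _ => ?_
    by_cases hy : ∃ x, f x = y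
    · obtain ⟨x, rfl⟩ := hy
      refine (Finset.card_le_card (t := {x, (-x.1, x.2)}) fun z hz => ?_).trans Finset.card_le_two
      rw [Finset.mem_filter] at hz
      rcases key x z hz.2.symm with h | h
      · simp [h]
      · simp [h]
    · push Not at hy
      rw [Finset.filter_false_of_mem fun x _ => hy x]
      simp
  rw [← Nat.card_eq_fintype_card, ← Nat.card_eq_fintype_card] at h1
  refine le_trans (le_of_eq ?_) h1
  have h3 : Nat.card Kˣ = Nat.card K - 1 := by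
    rw [Nat.card_eq_fintype_card, Fintype.card_units, Nat.card_eq_fintype_card]
  simp only [Nat.card_prod, h3]
  ring

/-- **The 7-dimensional layer of the parabolic of type `B₃`.** -/
theorem ob3_v7 {K : Type u} [Field K] [Finite K] (h2 : (2 : K) ≠ 0) {u : ↥(chevF4.group K)}
    (hu : u ∈ RGD.Sup (XX chevF4 4 K) {x | x ∈ NotJ cF hF.isCartan {k | k ≠ 0} ∧ 2 ≤ x 0}) (hl : ¬ Lng u) :
    (Nat.card K - 1) ^ 2 * Nat.card K ^ 5 ≤ 2 * Nat.card ↥(cls (PK K {k | k ≠ 0}) u) := by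
  obtain ⟨a, b, c, d, e, f, g, rfl⟩ := mem_layer hu
  have h1 : E7 a b c d e f g ≠ 1 := by
    intro h
    apply hl
    rw [h]
    exact ⟨1, by simp⟩
  obtain ⟨a', b', c', d', e', f', g', ha, h3, k3⟩ := norm_one h2 h1
  obtain ⟨g'', h4, k4⟩ := norm_two ha b' c' d' e' f' g'
  have hg : g'' ≠ 0 := by
    rintro rfl
    exact hl (k3.1 (k4.1 (lng_first a')))
  have h5 := card_bound ha hg
  rw [h4, h3] at h5
  exact h5

end Cfsg.Agent.H446.FC
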